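import Cfsg.Agent.AGraded.Steinberg
import Cfsg.Agent.ChevalleyStructure.SteinbergBruhat
import Cfsg.Agent.AGraded.Hom
set_option linter.all false

-- part: AGraded/KTwo
section
/-!
# The Steinberg group of type `A` over a finite field of characteristic two

A group generated by elements with the Steinberg relations of type `A_n`, `n ≥ 2`, over a finite field `F` of
characteristic two which maps onto `SL` is isomorphic to `SL` (`K_2(F) = 0`).
-/

set_option autoImplicit false
set_option linter.unusedSectionVars false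
set_option linter.unusedVariables false

namespace Cfsg.Agent.AGraded

open scoped commutatorElement
open Matrix

universe u v w

variable {ι : Type u} [Fintype ι] [DecidableEq ι] {F : Type v} [Field F] [CharP F 2] {Γ : Type w} [Group Γ]

namespace SteinRel

variable {x : ι → ι → F → Γ} (h : SteinRel x)

include h

theorem xx {i j : ι} (hij : i ≠ j) (a : F) : x i j a * x i j a = 1 := by
  rw [← h.add i j hij, CharTwo.add_self_eq_zero, h.zero hij]

theorem xinv {i j : ι} (hij : i ≠ j) (a : F) : (x i j a)⁻¹ = x i j a := inv_eq_of_mul_eq_one_left (h.xx hij a)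

omit h in
/-- the element `w_{ij}(u)` -/
def w (x : ι → ι → F → Γ) (i j : ι) (u : F) : Γ := x i j u * x j i u⁻¹ * x i j u

theorem ww {i j : ι} (hij : i ≠ j) (u : F) : w x i j u * w x i j u = 1 := by
  rw [w]
  calc x i j u * x j i u⁻¹ * x i j u * (x i j u * x j i u⁻¹ * x i j u) =
      x i j u * x j i u⁻¹ * (x i j u * x i j u) * x j i u⁻¹ * x i j u := by group
    _ = x i j u * (x j i u⁻¹ * x j i u⁻¹) * x i j u := by rw [h.xx hij]; group
    _ = 1 := by rw [h.xx hij.symm, mul_one, h.xx hij]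

theorem winv {i j : ι} (hij : i ≠ j) (u : F) : (w x i j u)⁻¹ = w x i j u :=
  inv_eq_of_mul_eq_one_left (h.ww hij u)

theorem cl {i j k : ι} (hij : i ≠ j) (hjk : j ≠ k) (hik : i ≠ k) (a b : F) :
    x i j a * x j k b * (x i j a)⁻¹ = x i k (a * b) * x j k b := h.conj_left hij hjk hik a b

theorem cr {i j k : ι} (hij : i ≠ j) (hjk : j ≠ k) (hik : i ≠ k) (a b : F) :
    x j k b * x i j a * (x j k b)⁻¹ = x i j a * x i k (a * b) := by
  rw [h.conj_right hij hjk hik, CharTwo.neg_eq]

theorem cc {i j k l : ι} (hij : i ≠ j) (hkl : k ≠ l) (hjk : j ≠ k) (hil : i ≠ l) (a b : F) :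
    x i j a * x k l b * (x i j a)⁻¹ = x k l b := by
  rw [h.comm i j k l hij hkl hjk hil, mul_inv_cancel_right]

omit h in
theorem conj_mul3 (a b c y : Γ) : (a * b * c) * y * (a * b * c)⁻¹ = a * (b * (c * y * c⁻¹) * b⁻¹) * a⁻¹ := by
  group

omit h in
theorem conj_prod (a y z : Γ) : a * (y * z) * a⁻¹ = (a * y * a⁻¹) * (a * z * a⁻¹) := by
  group

/-- `w_{ij}(u)` acts on `x_{ik}` -/
theorem w1 {i j k : ι} (hij : i ≠ j) (hjk : j ≠ k) (hik : i ≠ k) {u : F} (hu : u ≠ 0) (a : F) :
    w x i j u * x i k a * (w x i j u)⁻¹ = x j k (u⁻¹ * a) := by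
  rw [w, conj_mul3, h.cc hij hik hij.symm hik, h.cl hij.symm hik hjk, conj_prod, h.cl hij hjk hik,
    h.cc hij hik hij.symm hik]
  have e : u * (u⁻¹ * a) = a := by field_simp
  rw [e, h.comm i k j k hik hjk (Ne.symm hjk) hik, mul_assoc, h.xx hik, mul_one]

theorem w2 {i j k : ι} (hij : i ≠ j) (hjk : j ≠ k) (hik : i ≠ k) {u : F} (hu : u ≠ 0) (a : F) :
    w x i j u * x j k a * (w x i j u)⁻¹ = x i k (u * a) := by
  have h1 := h.w1 hij hjk hik hu (u * a)
  have e : u⁻¹ * (u * a) = a := by field_simp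
  rw [e, h.winv hij] at h1
  rw [h.winv hij, ← h1]
  calc w x i j u * (w x i j u * x i k (u * a) * w x i j u) * w x i j u =
      (w x i j u * w x i j u) * x i k (u * a) * (w x i j u * w x i j u) := by group
    _ = x i k (u * a) := by rw [h.ww hij]; group

theorem w3 {i j k : ι} (hij : i ≠ j) (hjk : j ≠ k) (hik : i ≠ k) {u : F} (hu : u ≠ 0) (a : F) :
    w x i j u * x k i a * (w x i j u)⁻¹ = x k j (a * u) := by
  have e : a * u * u⁻¹ = a := by field_simp
  have s1 := h.cr hik.symm hij hjk.symm a u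
  have s2 : x j i u⁻¹ * (x k i a * x k j (a * u)) * (x j i u⁻¹)⁻¹ = x k i a * (x k j (a * u) * x k i a) := by
    rw [conj_prod, h.cc hij.symm hik.symm hik hij.symm, h.cr hjk.symm hij.symm hik.symm, e]
  have s3 : x i j u * (x k i a * (x k j (a * u) * x k i a)) * (x i j u)⁻¹ =
      (x k i a * x k j (a * u)) * (x k j (a * u) * (x k i a * x k j (a * u))) := by
    rw [conj_prod, conj_prod, s1, h.cc hij hjk.symm hjk hij]
  rw [w, conj_mul3, s1, s2, s3]
  have e1 : x k i a * x k j (a * u) * (x k j (a * u) * (x k i a * x k j (a * u))) =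
      x k i a * (x k j (a * u) * x k j (a * u)) * x k i a * x k j (a * u) := by group
  rw [e1, h.xx hjk.symm, mul_one, h.xx hik.symm, one_mul]

theorem w4 {i j k : ι} (hij : i ≠ j) (hjk : j ≠ k) (hik : i ≠ k) {u : F} (hu : u ≠ 0) (a : F) :
    w x i j u * x k j a * (w x i j u)⁻¹ = x k i (a * u⁻¹) := by
  have h1 := h.w3 hij hjk hik hu (a * u⁻¹)
  have e : a * u⁻¹ * u = a := by field_simp
  rw [e, h.winv hij] at h1
  rw [h.winv hij, ← h1]
  calc w x i j u * (w x i j u * x k i (a * u⁻¹) * w x i j u) * w x i j u =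
      (w x i j u * w x i j u) * x k i (a * u⁻¹) * (w x i j u * w x i j u) := by group
    _ = x k i (a * u⁻¹) := by rw [h.ww hij]; group

theorem w0 {i j k l : ι} (hij : i ≠ j) (hkl : k ≠ l) (hki : k ≠ i) (hkj : k ≠ j) (hli : l ≠ i) (hlj : l ≠ j)
    (u a : F) : w x i j u * x k l a * (w x i j u)⁻¹ = x k l a := by
  rw [w, conj_mul3, h.cc hij hkl hkj.symm hli.symm, h.cc hij.symm hkl hki.symm hlj.symm,
    h.cc hij hkl hkj.symm hli.symm]

omit h in
theorem conj_br (g a b : Γ) : g * ⁅a, b⁆ * g⁻¹ = ⁅g * a * g⁻¹, g * b * g⁻¹⁆ := by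
  simp only [commutatorElement_def]
  group

theorem w5 (hι : 3 ≤ Fintype.card ι) {i j : ι} (hij : i ≠ j) {u : F} (hu : u ≠ 0) (a : F) :
    w x i j u * x i j a * (w x i j u)⁻¹ = x j i (u⁻¹ * a * u⁻¹) := by
  obtain ⟨k, hki, hkj⟩ := h.exists_third hι i j
  have e : x i j a = ⁅x i k a, x k j 1⁆ := by rw [h.br i k j hki.symm hkj hij, mul_one]
  rw [e, conj_br, h.w1 hij hkj.symm hki.symm hu, h.w4 hij hkj.symm hki.symm hu, h.br j k i hkj.symm hki hij.symm,
    one_mul]

theorem w6 (hι : 3 ≤ Fintype.card ι) {i j : ι} (hij : i ≠ j) {u : F} (hu : u ≠ 0) (a : F) :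
    w x i j u * x j i a * (w x i j u)⁻¹ = x i j (u * a * u) := by
  obtain ⟨k, hki, hkj⟩ := h.exists_third hι i j
  have e : x j i a = ⁅x j k a, x k i 1⁆ := by rw [h.br j k i hkj.symm hki hij.symm, mul_one]
  rw [e, conj_br, h.w2 hij hkj.symm hki.symm hu, h.w3 hij hkj.symm hki.symm hu, h.br i k j hki.symm hkj hij,
    one_mul]

/-- `w_{ij}(u) = w_{ji}(u⁻¹)` -/
theorem w_symm (hι : 3 ≤ Fintype.card ι) {i j : ι} (hij : i ≠ j) {u : F} (hu : u ≠ 0) : w x i j u = w x j i u⁻¹ := by
  have h1 : w x i j u * w x i j u * (w x i j u)⁻¹ = w x j i u⁻¹ := by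
    have h2 : w x i j u * (x i j u * x j i u⁻¹ * x i j u) * (w x i j u)⁻¹ =
        (w x i j u * x i j u * (w x i j u)⁻¹) * (w x i j u * x j i u⁻¹ * (w x i j u)⁻¹) *
          (w x i j u * x i j u * (w x i j u)⁻¹) := by group
    change w x i j u * (x i j u * x j i u⁻¹ * x i j u) * (w x i j u)⁻¹ = _
    rw [h2, h.w5 hι hij hu, h.w6 hι hij hu]
    have e1 : u⁻¹ * u * u⁻¹ = u⁻¹ := by field_simp
    have e2 : u * u⁻¹ * u = u := by field_simp
    rw [e1, e2, w, inv_inv]
  rw [← h1, mul_inv_cancel_right]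

/-- conjugation by `w_{ij}(1)` is a permutation of the root elements -/
theorem w_perm (hι : 3 ≤ Fintype.card ι) {i j : ι} (hij : i ≠ j) {k l : ι} (hkl : k ≠ l) (a : F) :
    w x i j 1 * x k l a * (w x i j 1)⁻¹ = x (Equiv.swap i j k) (Equiv.swap i j l) a := by
  have h1 : (1 : F) ≠ 0 := one_ne_zero
  by_cases hki : k = i
  · subst hki
    rw [Equiv.swap_apply_left]
    by_cases hlj : l = j
    · subst hlj
      rw [Equiv.swap_apply_right, h.w5 hι hij h1]
      congr 1; simp
    · rw [Equiv.swap_apply_of_ne_of_ne hkl.symm hlj, h.w1 hij (Ne.symm hlj) hkl h1]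
      congr 1; simp
  by_cases hkj : k = j
  · subst hkj
    rw [Equiv.swap_apply_right]
    by_cases hli : l = i
    · subst hli
      rw [Equiv.swap_apply_left, h.w6 hι hij h1]
      congr 1; simp
    · rw [Equiv.swap_apply_of_ne_of_ne hli hkl.symm, h.w2 hij hkl (Ne.symm hli) h1]
      congr 1; simp
  rw [Equiv.swap_apply_of_ne_of_ne hki hkj]
  by_cases hli : l = i
  · subst hli
    rw [Equiv.swap_apply_left, h.w3 hij (Ne.symm hkj) (Ne.symm hki) h1]
    congr 1; simp
  by_cases hlj : l = j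
  · subst hlj
    rw [Equiv.swap_apply_right, h.w4 hij (Ne.symm hkj) (Ne.symm hki) h1]
    congr 1; simp
  rw [Equiv.swap_apply_of_ne_of_ne hli hlj, h.w0 hij hkl hki hkj hli hlj]

/-! ### the torus -/

omit h in
/-- `h_{ij}(u) = w_{ij}(u) w_{ij}(1)` -/
def t (x : ι → ι → F → Γ) (i j : ι) (u : F) : Γ := w x i j u * w x i j 1

theorem t_one {i j : ι} (hij : i ≠ j) : t x i j 1 = 1 := h.ww hij 1

omit h in
/-- the multiplicative weight of the root `(k, l)` on `h_{ij}(u)` -/
def wt (i j k l : ι) (u : F) : F :=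
  (if k = i then u else if k = j then u⁻¹ else 1) * (if l = i then u⁻¹ else if l = j then u else 1)

theorem t_conj (hι : 3 ≤ Fintype.card ι) {i j : ι} (hij : i ≠ j) {u : F} (hu : u ≠ 0) {k l : ι} (hkl : k ≠ l) (a : F) :
    t x i j u * x k l a * (t x i j u)⁻¹ = x k l (wt i j k l u * a) := by
  have h1 : t x i j u * x k l a * (t x i j u)⁻¹ =
      w x i j u * (w x i j 1 * x k l a * (w x i j 1)⁻¹) * (w x i j u)⁻¹ := by
    rw [t]; group
  rw [h1, h.w_perm hι hij hkl]
  by_cases hki : k = i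
  · subst hki
    rw [Equiv.swap_apply_left]
    by_cases hlj : l = j
    · subst hlj
      rw [Equiv.swap_apply_right, h.w6 hι hij hu]
      congr 1
      simp [wt, hkl.symm]
      ring
    · rw [Equiv.swap_apply_of_ne_of_ne hkl.symm hlj, h.w2 hij (Ne.symm hlj) hkl hu]
      congr 1
      simp [wt, hkl.symm, hlj]
  by_cases hkj : k = j
  · subst hkj
    rw [Equiv.swap_apply_right]
    by_cases hli : l = i
    · subst hli
      rw [Equiv.swap_apply_left, h.w5 hι hij hu]
      congr 1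
      simp [wt, hkl]
      ring
    · rw [Equiv.swap_apply_of_ne_of_ne hli hkl.symm, h.w1 hij hkl (Ne.symm hli) hu]
      congr 1
      simp [wt, hki, hli, hkl.symm]
  rw [Equiv.swap_apply_of_ne_of_ne hki hkj]
  by_cases hli : l = i
  · subst hli
    rw [Equiv.swap_apply_left, h.w4 hij (Ne.symm hkj) (Ne.symm hki) hu]
    congr 1
    simp [wt, hki, hkj]
    ring
  by_cases hlj : l = j
  · subst hlj
    rw [Equiv.swap_apply_right, h.w3 hij (Ne.symm hkj) (Ne.symm hki) hu]
    congr 1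
    simp [wt, hki, hkj, hli]
    ring
  rw [Equiv.swap_apply_of_ne_of_ne hli hlj, h.w0 hij hkl hki hkj hli hlj]
  congr 1
  simp [wt, hki, hkj, hli, hlj]


omit h in
theorem wt_ne_zero {i j k l : ι} {u : F} (hu : u ≠ 0) : wt i j k l u ≠ 0 := by
  unfold wt
  apply mul_ne_zero
  · split_ifs
    · exact hu
    · exact inv_ne_zero hu
    · exact one_ne_zero
  · split_ifs
    · exact inv_ne_zero hu
    · exact hu
    · exact one_ne_zero

omit h in
theorem wt_inv {i j k l : ι} {u : F} (hu : u ≠ 0) (hij : i ≠ j) (hkl : k ≠ l) : wt i j l k u = (wt i j k l u)⁻¹ := by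
  unfold wt
  by_cases hki : k = i
  · subst hki
    by_cases hlj : l = j
    · subst hlj
      simp [hkl.symm]
    · simp [hkl.symm, hlj]
  by_cases hkj : k = j
  · subst hkj
    by_cases hli : l = i
    · subst hli
      simp [hkl, hkl.symm]
    · simp [hli, hkl.symm, hij.symm]
  by_cases hli : l = i
  · subst hli
    simp [hki, hkj]
  by_cases hlj : l = j
  · subst hlj
    simp [hki, hkj, hij.symm]
  simp [hki, hkj, hli, hlj]

/-- the torus acts on `w_{kl}(a)` -/
theorem t_conj_w (hι : 3 ≤ Fintype.card ι) {i j : ι} (hij : i ≠ j) {u : F} (hu : u ≠ 0) {k l : ι} (hkl : k ≠ l)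
    (a : F) : t x i j u * w x k l a * (t x i j u)⁻¹ = w x k l (wt i j k l u * a) := by
  have e : t x i j u * w x k l a * (t x i j u)⁻¹ = (t x i j u * x k l a * (t x i j u)⁻¹) *
      (t x i j u * x l k a⁻¹ * (t x i j u)⁻¹) * (t x i j u * x k l a * (t x i j u)⁻¹) := by
    rw [w]; group
  rw [e, h.t_conj hι hij hu hkl, h.t_conj hι hij hu hkl.symm, wt_inv hu hij hkl, w, mul_inv]

theorem t_inv {i j : ι} (hij : i ≠ j) (u : F) : (t x i j u)⁻¹ = w x i j 1 * w x i j u := by
  rw [t, _root_.mul_inv_rev, h.winv hij, h.winv hij]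

theorem t_conj_t (hι : 3 ≤ Fintype.card ι) {i j : ι} (hij : i ≠ j) {u : F} (hu : u ≠ 0) {k l : ι} (hkl : k ≠ l)
    (a : F) : t x i j u * t x k l a * (t x i j u)⁻¹ = t x k l (wt i j k l u * a) * (t x k l (wt i j k l u))⁻¹ := by
  have e : t x i j u * t x k l a * (t x i j u)⁻¹ = (t x i j u * w x k l a * (t x i j u)⁻¹) *
      (t x i j u * w x k l 1 * (t x i j u)⁻¹) := by
    rw [t, t]; group
  rw [e, h.t_conj_w hι hij hu hkl, h.t_conj_w hι hij hu hkl, mul_one, h.t_inv hkl]
  have e2 : w x k l (wt i j k l u * a) * w x k l (wt i j k l u) =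
      w x k l (wt i j k l u * a) * (w x k l 1 * w x k l 1) * w x k l (wt i j k l u) := by
    rw [h.ww hkl, mul_one]
  rw [e2, t]
  group

/-- `h(u)² = h(u²)` -/
theorem t_sq (hι : 3 ≤ Fintype.card ι) {i j : ι} (hij : i ≠ j) {u : F} (hu : u ≠ 0) :
    t x i j u * t x i j u = t x i j (u * u) := by
  have h1 : w x i j u * w x i j 1 * (w x i j u)⁻¹ = w x i j (u * u) := by
    have e : w x i j u * w x i j 1 * (w x i j u)⁻¹ = (w x i j u * x i j 1 * (w x i j u)⁻¹) *
        (w x i j u * x j i 1⁻¹ * (w x i j u)⁻¹) * (w x i j u * x i j 1 * (w x i j u)⁻¹) := by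
      rw [w, w]; group
    have e1 : u⁻¹ * 1 * u⁻¹ = (u * u)⁻¹ := by
      rw [mul_one, mul_inv]
    rw [e, inv_one, h.w5 hι hij hu, h.w6 hι hij hu, e1]
    have e2 : u * 1 * u = ((u * u)⁻¹)⁻¹ := by rw [inv_inv, mul_one]
    rw [e2]
    change w x j i (u * u)⁻¹ = _
    rw [← h.w_symm hι hij (mul_ne_zero hu hu)]
  calc t x i j u * t x i j u = (w x i j u * w x i j 1 * (w x i j u)⁻¹) * (w x i j u * w x i j u) * w x i j 1 := by
        rw [t]; group
    _ = t x i j (u * u) := by rw [h1, h.ww hij, mul_one, t]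


omit h in
theorem two_eq_zero : (2 : F) = 0 := by
  have := CharP.cast_eq_zero F 2
  exact_mod_cast this

section phi

variable {φ : Γ →* SpecialLinearGroup ι F}
  (hφ : ∀ i j (hij : i ≠ j) a, φ (x i j a) = SpecialLinearGroup.transvection hij a)

include hφ

omit h in
theorem phi_x {i j : ι} (hij : i ≠ j) (a : F) (v : ι → F) (k : ι) :
    (φ (x i j a) • v) k = if k = i then v i + a * v j else v k := by
  rw [hφ i j hij, Cfsg.Agent.LieClassical.SLGen.transvection_smul]
  by_cases hk : k = i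
  · subst hk
    simp
  · simp [hk]

omit h in
theorem phi_w {i j : ι} (hij : i ≠ j) {u : F} (hu : u ≠ 0) (v : ι → F) (k : ι) :
    (φ (w x i j u) • v) k = if k = i then u * v j else if k = j then u⁻¹ * v i else v k := by
  have h2 : (2 : F) = 0 := two_eq_zero
  have e1 := phi_x hφ hij u
  have e2 := phi_x hφ hij.symm u⁻¹
  rw [w, map_mul, map_mul, mul_smul, mul_smul]
  by_cases hki : k = i
  · subst hki
    simp only [e1, e2, if_true, hij, hij.symm, if_false]
    field_simp
    linear_combination (v k + u * v j) * h2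
  · by_cases hkj : k = j
    · subst hkj
      simp only [e1, e2, if_true, hij, hij.symm, if_false, hki]
      field_simp
      linear_combination (u * v k) * h2
    · simp only [e1, e2, if_true, hij, hij.symm, if_false, hki, hkj]

omit h in
theorem phi_t {i j : ι} (hij : i ≠ j) {u : F} (hu : u ≠ 0) (v : ι → F) (k : ι) :
    (φ (t x i j u) • v) k = if k = i then u * v i else if k = j then u⁻¹ * v j else v k := by
  rw [t, map_mul, mul_smul, phi_w hφ hij hu, phi_w hφ hij one_ne_zero, phi_w hφ hij one_ne_zero,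
    phi_w hφ hij one_ne_zero]
  by_cases hki : k = i
  · subst hki
    simp [hij.symm]
  · by_cases hkj : k = j
    · subst hkj
      simp [hki]
    · simp [hki, hkj]

omit h in
/-- the torus homomorphism property modulo the kernel -/
theorem c_mem_ker {i j : ι} (hij : i ≠ j) {u v : F} (hu : u ≠ 0) (hv : v ≠ 0) :
    t x i j u * t x i j v * (t x i j (u * v))⁻¹ ∈ φ.ker := by
  rw [MonoidHom.mem_ker, map_mul, map_inv, mul_inv_eq_one]
  apply Cfsg.Agent.LieClassical.SLGen.smul_ext
  intro y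
  funext k
  rw [map_mul, mul_smul, phi_t hφ hij hu, phi_t hφ hij hv, phi_t hφ hij hv, phi_t hφ hij hv,
    phi_t hφ hij (mul_ne_zero hu hv)]
  by_cases hki : k = i
  · subst hki
    simp
    ring
  · by_cases hkj : k = j
    · subst hkj
      simp [hki]
      ring
    · simp [hki, hkj]

end phi

omit h in
/-- the symbol -/
def sym (x : ι → ι → F → Γ) (i j : ι) (u v : F) : Γ := t x i j u * t x i j v * (t x i j (u * v))⁻¹

omit h in
theorem t_mul_t (i j : ι) (u v : F) : t x i j u * t x i j v = sym x i j u v * t x i j (u * v) := by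
  rw [sym]; group

omit h in
theorem comm_inv {c g : Γ} (hc : g * c = c * g) : g * c⁻¹ = c⁻¹ * g := by
  have : Commute g c := hc
  exact this.inv_right

theorem sym_br (hι : 3 ≤ Fintype.card ι) {i j k : ι} (hij : i ≠ j) (hik : i ≠ k) (hjk : j ≠ k) {u v : F}
    (hv : v ≠ 0) : t x i k v * t x i j u * (t x i k v)⁻¹ = (sym x i j u v)⁻¹ * t x i j u := by
  have e : wt i k i j v = v := by simp [wt, hij.symm, hjk]
  have h1 := h.t_conj_t hι hik hv hij u
  rw [e, mul_comm v u] at h1
  rw [h1, sym]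
  group

theorem sym_mul (hι : 3 ≤ Fintype.card ι) {i j k : ι} (hij : i ≠ j) (hik : i ≠ k) (hjk : j ≠ k)
    (hc : ∀ u v, u ≠ 0 → v ≠ 0 → ∀ g : Γ, g * sym x i j u v = sym x i j u v * g) {u u' v : F}
    (hu : u ≠ 0) (hu' : u' ≠ 0) (hv : v ≠ 0) : sym x i j (u * u') v = sym x i j u v * sym x i j u' v := by
  have h1 : t x i j (u * u') = (sym x i j u u')⁻¹ * (t x i j u * t x i j u') := by rw [t_mul_t]; group
  have h2 := h.sym_br hι hij hik hjk hv (u := u * u')
  have h3 : t x i k v * t x i j (u * u') * (t x i k v)⁻¹ =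
      (sym x i j u u')⁻¹ * ((sym x i j u v)⁻¹ * t x i j u) * ((sym x i j u' v)⁻¹ * t x i j u') := by
    rw [h1, ← h.sym_br hι hij hik hjk hv, ← h.sym_br hι hij hik hjk hv]
    have h5 := comm_inv (hc u u' hu hu' (t x i k v))
    calc t x i k v * ((sym x i j u u')⁻¹ * (t x i j u * t x i j u')) * (t x i k v)⁻¹ =
        (t x i k v * (sym x i j u u')⁻¹) * (t x i j u * t x i j u') * (t x i k v)⁻¹ := by group
      _ = (sym x i j u u')⁻¹ * (t x i k v * t x i j u * (t x i k v)⁻¹) *
          (t x i k v * t x i j u' * (t x i k v)⁻¹) := by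
          rw [h5]; group
  rw [h3, h1] at h2
  have h7 := comm_inv (hc u' v hu' hv (t x i j u))
  have h9 : (sym x i j u u')⁻¹ * ((sym x i j u v)⁻¹ * (sym x i j u' v)⁻¹) * (t x i j u * t x i j u') =
      (sym x i j (u * u') v)⁻¹ * (sym x i j u u')⁻¹ * (t x i j u * t x i j u') := by
    calc (sym x i j u u')⁻¹ * ((sym x i j u v)⁻¹ * (sym x i j u' v)⁻¹) * (t x i j u * t x i j u') =
        (sym x i j u u')⁻¹ * (sym x i j u v)⁻¹ * ((sym x i j u' v)⁻¹ * t x i j u) * t x i j u' := by group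
      _ = (sym x i j u u')⁻¹ * ((sym x i j u v)⁻¹ * t x i j u) * ((sym x i j u' v)⁻¹ * t x i j u') := by
          rw [← h7]; group
      _ = _ := by rw [h2]; group
  have h10 := mul_right_cancel h9
  have h11 : (sym x i j (u * u') v)⁻¹ * (sym x i j u u')⁻¹ = (sym x i j u u')⁻¹ * (sym x i j (u * u') v)⁻¹ := by
    rw [← _root_.mul_inv_rev, ← _root_.mul_inv_rev, hc (u * u') v (mul_ne_zero hu hu') hv (sym x i j u u')]
  rw [h11] at h10
  have h12 := mul_left_cancel h10
  rw [← _root_.inv_inj, ← h12, _root_.mul_inv_rev, ← _root_.mul_inv_rev, hc u v hu hv, _root_.mul_inv_rev]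

theorem sym_self (hι : 3 ≤ Fintype.card ι) {i j : ι} (hij : i ≠ j) {u : F} (hu : u ≠ 0) : sym x i j u u = 1 := by
  rw [sym, h.t_sq hι hij hu, mul_inv_cancel]

/-- a symbol which is trivial on a generator on the left is trivial -/
theorem sym_eq_one_of [Finite F] (hι : 3 ≤ Fintype.card ι) {i j k : ι} (hij : i ≠ j) (hik : i ≠ k) (hjk : j ≠ k)
    (hc : ∀ u v, u ≠ 0 → v ≠ 0 → ∀ g : Γ, g * sym x i j u v = sym x i j u v * g) {g : Fˣ}
    (hg : ∀ a : Fˣ, a ∈ Subgroup.zpowers g) {v : F} (hv : v ≠ 0) (hgv : sym x i j (g : F) v = 1) {u : F}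
    (hu : u ≠ 0) : sym x i j u v = 1 := by
  let f : Fˣ →* Γ :=
    { toFun := fun a => sym x i j a v
      map_one' := by
        have h3 := h.sym_mul hι hij hik hjk hc (u := 1) (u' := 1) one_ne_zero one_ne_zero hv
        rw [mul_one] at h3
        rw [Units.val_one]
        exact (mul_left_cancel (a := sym x i j 1 v) (b := 1) (c := sym x i j 1 v) (by rw [mul_one]; exact h3)).symm
      map_mul' := fun a b => h.sym_mul hι hij hik hjk hc a.ne_zero b.ne_zero hv }
  have hf : f g = 1 := hgv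
  obtain ⟨k, hk⟩ := Subgroup.mem_zpowers_iff.1 (hg (Units.mk0 u hu))
  have h5 : f (Units.mk0 u hu) = 1 := by rw [← hk, map_zpow, hf, _root_.one_zpow]
  exact h5

/-- **the symbols are trivial** over finite fields of characteristic two -/
theorem sym_eq_one [Finite F] (hι : 3 ≤ Fintype.card ι) {φ : Γ →* SpecialLinearGroup ι F}
    (hφ : ∀ i j (hij : i ≠ j) a, φ (x i j a) = SpecialLinearGroup.transvection hij a)
    (hker : φ.ker ≤ Subgroup.center Γ) {i j : ι} (hij : i ≠ j)
    {u v : F} (hu : u ≠ 0) (hv : v ≠ 0) : sym x i j u v = 1 := by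
  obtain ⟨k, hki, hkj⟩ := h.exists_third hι i j
  have hc : ∀ i j, i ≠ j → ∀ u v, u ≠ 0 → v ≠ 0 → ∀ g : Γ, g * sym x i j u v = sym x i j u v * g :=
    fun i j hij u v hu hv g => Subgroup.mem_center_iff.1 (hker (c_mem_ker hφ hij hu hv)) g
  obtain ⟨g, hg⟩ := IsCyclic.exists_generator (α := Fˣ)
  -- `sym v g = 1` for `(i, k)`
  have h1 : sym x i k v (g : F) = 1 :=
    h.sym_eq_one_of hι hki.symm hij hkj (hc i k hki.symm) hg g.ne_zero (h.sym_self hι hki.symm g.ne_zero) hv
  have h2 := h.sym_br hι hki.symm hij hkj (u := v) g.ne_zero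
  rw [h1, inv_one, one_mul] at h2
  have h3 := h.sym_br hι hij hki.symm hkj.symm (u := (g : F)) hv
  have h4 : t x i k v * t x i j g * (t x i k v)⁻¹ = t x i j g := by
    have : t x i j g * t x i k v = t x i k v * t x i j g := by
      calc t x i j g * t x i k v = t x i j g * t x i k v * (t x i j g)⁻¹ * t x i j g := by group
        _ = _ := by rw [h2]
    rw [← this]; group
  rw [h4] at h3
  have h5 : sym x i j (g : F) v = 1 := by
    have h6 : (sym x i j (g : F) v)⁻¹ = 1 := by
      have h7 : t x i j g * (t x i j g)⁻¹ = (sym x i j (g : F) v)⁻¹ * t x i j g * (t x i j g)⁻¹ := by rw [← h3]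
      rw [mul_inv_cancel, mul_inv_cancel_right] at h7
      exact h7.symm
    rwa [inv_eq_one] at h6
  exact h.sym_eq_one_of hι hij hki.symm hkj.symm (hc i j hij) hg hv h5 hu


/-! ### the torus as a product -/

theorem t_rev (hι : 3 ≤ Fintype.card ι) {i j : ι} (hij : i ≠ j) {u : F} (hu : u ≠ 0) : t x j i u = t x i j u⁻¹ := by
  rw [t, t, h.w_symm hι hij.symm hu, h.w_symm hι hij.symm one_ne_zero, inv_one]

theorem t_dec (hι : 3 ≤ Fintype.card ι) {o i j : ι} (hoi : o ≠ i) (hoj : o ≠ j) (hij : i ≠ j) {u : F} (hu : u ≠ 0) :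
    t x i j u⁻¹ = t x o i u * (t x o j u)⁻¹ := by
  have e : wt o i i j u = u⁻¹ := by simp [wt, hoi.symm, hoj.symm, hij.symm]
  have h1 := h.t_conj_w hι hoi hu hij 1
  rw [e, mul_one] at h1
  have h2 : w x i j 1 * t x o i u * (w x i j 1)⁻¹ = t x o j u := by
    have e1 : w x i j 1 * t x o i u * (w x i j 1)⁻¹ =
        ((w x i j 1 * x o i u * (w x i j 1)⁻¹) * (w x i j 1 * x i o u⁻¹ * (w x i j 1)⁻¹) *
          (w x i j 1 * x o i u * (w x i j 1)⁻¹)) *
        ((w x i j 1 * x o i 1 * (w x i j 1)⁻¹) * (w x i j 1 * x i o 1⁻¹ * (w x i j 1)⁻¹) *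
          (w x i j 1 * x o i 1 * (w x i j 1)⁻¹)) := by
      rw [t, w, w, w]; group
    rw [e1, h.w_perm hι hij hoi, h.w_perm hι hij hoi.symm, h.w_perm hι hij hoi, h.w_perm hι hij hoi.symm,
      Equiv.swap_apply_left, Equiv.swap_apply_of_ne_of_ne hoi hoj]
    rfl
  have h3 : t x i j u⁻¹ = t x o i u * w x i j 1 * (t x o i u)⁻¹ * w x i j 1 := by rw [h1, t]
  rw [h3, ← h2]
  have h4 := h.winv hij (1 : F)
  rw [h4]
  have h5 : (w x i j 1 * t x o i u * w x i j 1)⁻¹ = w x i j 1 * (t x o i u)⁻¹ * w x i j 1 := by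
    rw [_root_.mul_inv_rev, _root_.mul_inv_rev, h4, mul_assoc]
  rw [h5]
  group

omit h in
/-- the torus -/
def tor (x : ι → ι → F → Γ) : Subgroup Γ := Subgroup.closure {g | ∃ i j, i ≠ j ∧ ∃ u, u ≠ 0 ∧ g = t x i j u}

omit h in
theorem t_mem_tor {i j : ι} (hij : i ≠ j) {u : F} (hu : u ≠ 0) : t x i j u ∈ tor x :=
  Subgroup.subset_closure ⟨i, j, hij, u, hu, rfl⟩

/-- the torus maps isomorphically to the diagonal group -/
theorem tor_inj [Finite F] (hι : 3 ≤ Fintype.card ι) {φ : Γ →* SpecialLinearGroup ι F}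
    (hφ : ∀ i j (hij : i ≠ j) a, φ (x i j a) = SpecialLinearGroup.transvection hij a)
    (hker : φ.ker ≤ Subgroup.center Γ) {g : Γ} (hg : g ∈ tor x) (hg1 : φ g = 1) : g = 1 := by
  have hm : ∀ i j, i ≠ j → ∀ u v, u ≠ 0 → v ≠ 0 → t x i j u * t x i j v = t x i j (u * v) := by
    intro i j hij u v hu hv
    rw [t_mul_t, h.sym_eq_one hι hφ hker hij hu hv, one_mul]
  have hcomm : ∀ i j k l, i ≠ j → k ≠ l → ∀ u v, u ≠ 0 → v ≠ 0 → Commute (t x i j u) (t x k l v) := by
    intro i j k l hij hkl u v hu hv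
    have h1 := h.t_conj_t hι hij hu hkl v
    have h2 : wt i j k l u ≠ 0 := wt_ne_zero hu
    rw [← hm k l hkl _ _ h2 hv, (show t x k l (wt i j k l u) * t x k l v = t x k l v * t x k l (wt i j k l u) by
      rw [hm k l hkl _ _ h2 hv, hm k l hkl _ _ hv h2, mul_comm]), mul_inv_cancel_right] at h1
    change t x i j u * t x k l v = t x k l v * t x i j u
    calc t x i j u * t x k l v = t x i j u * t x k l v * (t x i j u)⁻¹ * t x i j u := by group
      _ = _ := by rw [h1]
  have : Nonempty ι := Fintype.card_pos_iff.1 (by omega)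
  obtain ⟨o⟩ := this
  let f : ι → Fˣ →* Γ := fun j => if hj : o = j then 1 else
    { toFun := fun u => t x o j u
      map_one' := by rw [Units.val_one]; exact h.t_one hj
      map_mul' := fun u v => (hm o j hj u v u.ne_zero v.ne_zero).symm }
  have hf : ∀ j, o ≠ j → ∀ u : Fˣ, f j u = t x o j u := by
    intro j hj u
    simp only [f, dif_neg hj]
    rfl
  have hfo : ∀ u : Fˣ, f o u = 1 := by
    intro u
    simp only [f, dif_pos]
    rfl
  have hpair : Pairwise fun i j => ∀ a b : Fˣ, Commute (f i a) (f j b) := by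
    intro i j hij a b
    by_cases hi : o = i
    · subst hi
      rw [hfo]
      exact Commute.one_left _
    by_cases hj : o = j
    · subst hj
      rw [hfo]
      exact Commute.one_right _
    rw [hf i hi, hf j hj]
    exact hcomm _ _ _ _ hi hj _ _ a.ne_zero b.ne_zero
  let Θ : (ι → Fˣ) →* Γ := MonoidHom.noncommPiCoprod f hpair
  have hΘ : ∀ j (u : Fˣ), Θ (Pi.mulSingle j u) = f j u := fun j u => MonoidHom.noncommPiCoprod_mulSingle ..
  have hle : tor x ≤ Θ.range := by
    rw [tor, Subgroup.closure_le]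
    rintro _ ⟨i, j, hij, u, hu, rfl⟩
    by_cases hi : o = i
    · subst hi
      exact ⟨Pi.mulSingle j (Units.mk0 u hu), by rw [hΘ, hf j hij, Units.val_mk0]⟩
    by_cases hj : o = j
    · subst hj
      refine ⟨Pi.mulSingle i (Units.mk0 u hu)⁻¹, ?_⟩
      rw [hΘ, hf i hi, h.t_rev hι hi hu, Units.val_inv_eq_inv_val, Units.val_mk0]
    · have h1 := h.t_dec hι hi hj hij (inv_ne_zero hu)
      rw [inv_inv] at h1
      refine ⟨Pi.mulSingle i (Units.mk0 u hu)⁻¹ * (Pi.mulSingle j (Units.mk0 u hu)⁻¹)⁻¹, ?_⟩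
      rw [map_mul, map_inv, hΘ, hΘ, hf i hi, hf j hj, h1, Units.val_inv_eq_inv_val, Units.val_mk0]
  obtain ⟨y, rfl⟩ := hle hg
  -- the diagonal entries
  have hdiag : ∀ y : ι → Fˣ, ∀ k, o ≠ k → ∀ v : ι → F, (φ (Θ y) • v) k = ((y k)⁻¹ : Fˣ) * v k := by
    intro y k hk
    refine Pi.mulSingle_induction (fun y => ∀ v : ι → F, (φ (Θ y) • v) k = ((y k)⁻¹ : Fˣ) * v k) y ?_ ?_ ?_
    · intro v
      rw [map_one, map_one, one_smul]
      simp
    · intro a b ha hb v
      rw [map_mul, map_mul, mul_smul, ha, hb, Pi.mul_apply, _root_.mul_inv_rev, Units.val_mul]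
      ring
    · intro j a v
      rw [hΘ]
      by_cases hj : o = j
      · subst hj
        rw [hfo, map_one, one_smul, Pi.mulSingle_eq_of_ne hk.symm]
        simp
      · rw [hf j hj, phi_t hφ hj a.ne_zero]
        by_cases hkj : k = j
        · subst hkj
          simp [hk.symm]
        · rw [Pi.mulSingle_eq_of_ne hkj]
          simp [hk.symm, hkj]
  have hy : y = Pi.mulSingle o (y o) := by
    funext k
    by_cases hk : o = k
    · subst hk
      simp
    · have h1 := hdiag y k hk (fun _ => 1)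
      rw [hg1, one_smul, mul_one] at h1
      have h2 : (y k)⁻¹ = 1 := Units.ext h1.symm
      rw [Pi.mulSingle_eq_of_ne (Ne.symm hk)]
      rwa [inv_eq_one] at h2
  rw [hy, hΘ, hfo]

end SteinRel

end Cfsg.Agent.AGraded
end

-- part: AGraded/KTwoB
section
/-!
# The Steinberg group of type `A` over a finite field of characteristic two, end

Bruhat decomposition; the kernel of the map to `SL` is trivial.
-/

set_option autoImplicit false
set_option linter.unusedSectionVars false
set_option linter.unusedVariables false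

namespace Cfsg.Agent.AGraded

open scoped commutatorElement
open Matrix Cfsg.Agent.ChevalleyStructure.SteinbergBruhat

universe u v w

variable {F : Type v} [Field F] [CharP F 2] {Γ : Type w} [Group Γ]

section gen

variable {ι : Type u} [Fintype ι] [DecidableEq ι]

namespace SteinRel

variable {x : ι → ι → F → Γ} (h : SteinRel x)

include h

/-- the torus acts on root elements by scalars -/
theorem tor_conj (hι : 3 ≤ Fintype.card ι) {g : Γ} (hg : g ∈ tor x) {k l : ι} (hkl : k ≠ l) :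
    ∃ c : F, c ≠ 0 ∧ ∀ a, g * x k l a * g⁻¹ = x k l (c * a) := by
  rw [tor] at hg
  induction hg using Subgroup.closure_induction with
  | mem y hy =>
    obtain ⟨i, j, hij, u, hu, rfl⟩ := hy
    exact ⟨wt i j k l u, wt_ne_zero hu, fun a => h.t_conj hι hij hu hkl a⟩
  | one => exact ⟨1, one_ne_zero, fun a => by simp⟩
  | mul y z _ _ hy hz =>
    obtain ⟨c, hc, h1⟩ := hy
    obtain ⟨d, hd, h2⟩ := hz
    refine ⟨c * d, mul_ne_zero hc hd, fun a => ?_⟩
    have e : y * z * x k l a * (y * z)⁻¹ = y * (z * x k l a * z⁻¹) * y⁻¹ := by group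
    rw [e, h2, h1, mul_assoc]
  | inv y _ hy =>
    obtain ⟨c, hc, h1⟩ := hy
    refine ⟨c⁻¹, inv_ne_zero hc, fun a => ?_⟩
    have h2 := h1 (c⁻¹ * a)
    rw [mul_inv_cancel_left₀ hc] at h2
    rw [← h2]; group

/-- the Weyl elements act on the torus -/
theorem w_perm_t (hι : 3 ≤ Fintype.card ι) {i j : ι} (hij : i ≠ j) {k l : ι} (hkl : k ≠ l) (a : F) :
    w x i j 1 * t x k l a * (w x i j 1)⁻¹ = t x (Equiv.swap i j k) (Equiv.swap i j l) a := by
  have e1 : w x i j 1 * t x k l a * (w x i j 1)⁻¹ =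
      ((w x i j 1 * x k l a * (w x i j 1)⁻¹) * (w x i j 1 * x l k a⁻¹ * (w x i j 1)⁻¹) *
        (w x i j 1 * x k l a * (w x i j 1)⁻¹)) *
      ((w x i j 1 * x k l 1 * (w x i j 1)⁻¹) * (w x i j 1 * x l k 1⁻¹ * (w x i j 1)⁻¹) *
        (w x i j 1 * x k l 1 * (w x i j 1)⁻¹)) := by
    rw [t, w, w, w]; group
  rw [e1, h.w_perm hι hij hkl, h.w_perm hι hij hkl.symm, h.w_perm hι hij hkl, h.w_perm hι hij hkl.symm]
  rfl

theorem w_perm_w (hι : 3 ≤ Fintype.card ι) {i j : ι} (hij : i ≠ j) {k l : ι} (hkl : k ≠ l) (a : F) :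
    w x i j 1 * w x k l a * (w x i j 1)⁻¹ = w x (Equiv.swap i j k) (Equiv.swap i j l) a := by
  have e1 : w x i j 1 * w x k l a * (w x i j 1)⁻¹ =
      ((w x i j 1 * x k l a * (w x i j 1)⁻¹) * (w x i j 1 * x l k a⁻¹ * (w x i j 1)⁻¹) *
        (w x i j 1 * x k l a * (w x i j 1)⁻¹)) := by
    rw [w, w]; group
  rw [e1, h.w_perm hι hij hkl, h.w_perm hι hij hkl.symm]
  rfl

end SteinRel

end gen

namespace SteinRel

variable {m : ℕ} {x : Fin (m + 1) → Fin (m + 1) → F → Γ} (h : SteinRel x)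

/-- the roots -/
abbrev Root (m : ℕ) := {p : Fin (m + 1) × Fin (m + 1) // p.1 ≠ p.2}

omit [CharP F 2] in
/-- the action of permutations on roots -/
def tr (σ : Equiv.Perm (Fin (m + 1))) (p : Root m) : Root m :=
  ⟨(σ p.1.1, σ p.1.2), fun e => p.2 (σ.injective e)⟩

/-- the root datum -/
def rd : RData Γ (Root m) (Fin m) where
  pos p := p.1.1 < p.1.2
  neg p := ⟨(p.1.2, p.1.1), p.2.symm⟩
  sim i := ⟨(i.castSucc, i.succ), (Fin.castSucc_lt_succ).ne⟩
  refl i p := tr (Equiv.swap i.castSucc i.succ) p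
  X p := (h.rt p.1.1 p.1.2).range
  H := tor x
  n i := w x i.castSucc i.succ 1

include h

theorem mem_X {i j : Fin (m + 1)} (hij : i ≠ j) {y : Γ} : y ∈ (rd h).X ⟨(i, j), hij⟩ ↔ ∃ a, y = x i j a := by
  constructor
  · rintro ⟨a, rfl⟩
    exact ⟨Multiplicative.toAdd a, (h.rt_apply hij (Multiplicative.toAdd a)).symm ▸ rfl⟩
  · rintro ⟨a, rfl⟩
    exact ⟨Multiplicative.ofAdd a, h.rt_apply hij a⟩

omit h in
theorem cs_ne (i : Fin m) : i.castSucc ≠ i.succ := (Fin.castSucc_lt_succ).ne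

/-- the flag stabiliser -/
def flag (φ : Γ →* SpecialLinearGroup (Fin (m + 1)) F) : Subgroup Γ where
  carrier := {g | ∀ (c : Fin (m + 1)) (v : Fin (m + 1) → F),
    (∀ j, c < j → v j = 0) ↔ ∀ j, c < j → (φ g • v) j = 0}
  one_mem' := by
    intro c v
    rw [map_one, one_smul]
  mul_mem' := by
    intro a b ha hb c v
    rw [map_mul, mul_smul, hb c v, ha c (φ b • v)]
  inv_mem' := by
    intro a ha c v
    have := ha c (φ a⁻¹ • v)
    rw [map_inv, smul_inv_smul] at this
    rw [map_inv]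
    exact this.symm

variable {φ : Γ →* SpecialLinearGroup (Fin (m + 1)) F}
  (hφ : ∀ i j (hij : i ≠ j) a, φ (x i j a) = SpecialLinearGroup.transvection hij a)

theorem X_le_flag (hφ : ∀ i j (hij : i ≠ j) a, φ (x i j a) = SpecialLinearGroup.transvection hij a)
    {i j : Fin (m + 1)} (hij : i < j) (a : F) : x i j a ∈ flag φ := by
  intro c v
  constructor
  · intro hv k hk
    rw [phi_x hφ hij.ne]
    split_ifs with hki
    · subst hki
      rw [hv k hk, hv j (hk.trans hij)]; simp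
    · exact hv k hk
  · intro hv k hk
    have hj : ∀ k, c < k → k ≠ i → v k = 0 := by
      intro k hk hki
      have := hv k hk
      rwa [phi_x hφ hij.ne, if_neg hki] at this
    by_cases hki : k = i
    · subst hki
      have := hv k hk
      rw [phi_x hφ hij.ne, if_pos rfl, hj j (hk.trans hij) hij.ne'] at this
      simpa using this
    · exact hj k hk hki

theorem t_mem_flag (hφ : ∀ i j (hij : i ≠ j) a, φ (x i j a) = SpecialLinearGroup.transvection hij a)
    {i j : Fin (m + 1)} (hij : i ≠ j) {u : F} (hu : u ≠ 0) : t x i j u ∈ flag φ := by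
  intro c v
  have e : ∀ k, (φ (t x i j u) • v) k = 0 ↔ v k = 0 := by
    intro k
    rw [phi_t hφ hij hu]
    split_ifs with h1 h2
    · subst h1
      simp [hu]
    · subst h2
      simp [hu]
    · rfl
  simp only [e]

theorem B_le_flag (hφ : ∀ i j (hij : i ≠ j) a, φ (x i j a) = SpecialLinearGroup.transvection hij a) :
    (rd h).B ≤ flag φ := by
  refine sup_le (iSup₂_le ?_) ?_
  · rintro ⟨⟨i, j⟩, hij⟩ hp y hy
    obtain ⟨a, rfl⟩ := (h.mem_X hij).1 hy
    exact h.X_le_flag hφ hp a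
  · refine (Subgroup.closure_le _).2 ?_
    rintro _ ⟨i, j, hij, u, hu, rfl⟩
    exact h.t_mem_flag hφ hij hu

theorem map_X_not_le (hφ : ∀ i j (hij : i ≠ j) a, φ (x i j a) = SpecialLinearGroup.transvection hij a)
    (r : Root m) (hr : ¬ (rd h).pos r) : ¬ ((rd h).X r).map φ ≤ (rd h).B.map φ := by
  obtain ⟨⟨k, l⟩, hkl⟩ := r
  have hlk : l < k := lt_of_le_of_ne (not_lt.1 hr) (Ne.symm hkl)
  intro hle
  obtain ⟨b, hb, hb'⟩ := hle (Subgroup.mem_map_of_mem φ ((h.mem_X hkl).2 ⟨1, rfl⟩))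
  have h1 := (h.B_le_flag hφ hb) l (Pi.single l 1)
  have h2 : ∀ j, l < j → (Pi.single l (1 : F) : Fin (m + 1) → F) j = 0 := by
    intro j hj
    rw [Pi.single_eq_of_ne hj.ne']
  have h3 := h1.1 h2 k hlk
  rw [hb', phi_x hφ hkl, if_pos rfl, Pi.single_eq_same, Pi.single_eq_of_ne hkl] at h3
  simp at h3

theorem nn_eq (i : Fin m) : (rd h).n i * (rd h).n i = 1 := h.ww (cs_ne i) 1

theorem swap_lt {i : Fin m} {a b : Fin (m + 1)} (hab : a < b) (hne : ¬ (a = i.castSucc ∧ b = i.succ)) :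
    Equiv.swap i.castSucc i.succ a < Equiv.swap i.castSucc i.succ b := by
  simp only [Equiv.swap_apply_def]
  split_ifs with h1 h2 h3 h4 h5 h6 h7 h8 <;>
    simp only [Fin.lt_def, Fin.ext_iff, Fin.val_castSucc, Fin.val_succ] at * <;> omega

theorem axioms_rd (hm : 2 ≤ m)
    (hφ : ∀ i j (hij : i ≠ j) a, φ (x i j a) = SpecialLinearGroup.transvection hij a) : (rd h).Axioms where
  refl_refl := by
    rintro i ⟨⟨a, b⟩, hab⟩
    apply Subtype.ext
    simp [rd, tr]
  refl_sim := by
    intro i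
    apply Subtype.ext
    simp [rd, tr]
  refl_pos := by
    rintro i ⟨⟨a, b⟩, hab⟩ hp hne
    refine h.swap_lt hp ?_
    rintro ⟨rfl, rfl⟩
    exact hne rfl
  refl_neg := by
    rintro i ⟨⟨a, b⟩, hab⟩
    rfl
  pos_sim := fun i => Fin.castSucc_lt_succ
  pos_neg := by
    rintro ⟨⟨a, b⟩, hab⟩
    change b < a ↔ ¬ a < b
    have : a ≠ b := hab
    rw [not_lt]
    exact ⟨le_of_lt, fun h1 => lt_of_le_of_ne h1 this.symm⟩
  conjH := by
    rintro g hg ⟨⟨k, l⟩, hkl⟩ y hy
    obtain ⟨a, rfl⟩ := (h.mem_X hkl).1 hy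
    have hι : 3 ≤ Fintype.card (Fin (m + 1)) := by rw [Fintype.card_fin]; omega
    obtain ⟨c, -, hc⟩ := h.tor_conj hι hg hkl
    exact (h.mem_X hkl).2 ⟨_, hc a⟩
  conjn := by
    rintro i ⟨⟨k, l⟩, hkl⟩ y hy
    obtain ⟨a, rfl⟩ := (h.mem_X hkl).1 hy
    have hι : 3 ≤ Fintype.card (Fin (m + 1)) := by rw [Fintype.card_fin]; omega
    exact (h.mem_X _).2 ⟨a, h.w_perm hι (cs_ne i) hkl a⟩
  conjnH := by
    intro i g hg
    have hι : 3 ≤ Fintype.card (Fin (m + 1)) := by rw [Fintype.card_fin]; omega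
    have : tor x ≤ (tor x).comap (MulAut.conj ((rd h).n i)).toMonoidHom := by
      refine (Subgroup.closure_le _).2 ?_
      rintro _ ⟨k, l, hkl, u, hu, rfl⟩
      change w x i.castSucc i.succ 1 * t x k l u * (w x i.castSucc i.succ 1)⁻¹ ∈ tor x
      rw [h.w_perm_t hι (cs_ne i) hkl]
      exact t_mem_tor (fun e => hkl ((Equiv.swap _ _).injective e)) hu
    exact this hg
  nn := by
    intro i
    rw [h.nn_eq]
    exact Subgroup.one_mem _
  nmem := by
    intro i
    have h1 : x i.castSucc i.succ 1 ∈ (rd h).X ((rd h).sim i) := (h.mem_X (cs_ne i)).2 ⟨1, rfl⟩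
    have h2 : x i.succ i.castSucc 1⁻¹ ∈ (rd h).X ((rd h).neg ((rd h).sim i)) :=
      (h.mem_X (cs_ne i).symm).2 ⟨1⁻¹, rfl⟩
    refine (le_sup_left : _ ≤ _ ⊔ (rd h).H) ?_
    exact Subgroup.mul_mem _ (Subgroup.mul_mem_sup h1 h2) (Subgroup.mem_sup_left h1)
  Xneg := by
    intro i y hy
    obtain ⟨a, rfl⟩ := (h.mem_X (cs_ne i).symm).1 hy
    by_cases ha : a = 0
    · left
      rw [ha, h.zero (cs_ne i).symm]
    · right
      have h1 : x i.castSucc i.succ a⁻¹ ∈ (rd h).X ((rd h).sim i) := (h.mem_X (cs_ne i)).2 ⟨a⁻¹, rfl⟩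
      have hι : 3 ≤ Fintype.card (Fin (m + 1)) := by rw [Fintype.card_fin]; omega
      refine ⟨_, h1, w x i.castSucc i.succ 1 * t x i.castSucc i.succ a⁻¹ * (w x i.castSucc i.succ 1)⁻¹, ?_, _, h1, ?_⟩
      · rw [h.w_perm_t hι (cs_ne i) (cs_ne i)]
        exact t_mem_tor (fun e => cs_ne i ((Equiv.swap _ _).injective e)) (inv_ne_zero ha)
      · change x i.succ i.castSucc a = x i.castSucc i.succ a⁻¹ * (w x i.castSucc i.succ 1 * _) * x i.castSucc i.succ a⁻¹
        have e1 : w x i.castSucc i.succ (1 : F) *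
            (w x i.castSucc i.succ 1 * t x i.castSucc i.succ a⁻¹ * (w x i.castSucc i.succ 1)⁻¹) =
            w x i.castSucc i.succ a⁻¹ := by
          have e2 : w x i.castSucc i.succ (1 : F) *
            (w x i.castSucc i.succ 1 * t x i.castSucc i.succ a⁻¹ * (w x i.castSucc i.succ 1)⁻¹) =
            (w x i.castSucc i.succ (1 : F) * w x i.castSucc i.succ 1) * w x i.castSucc i.succ a⁻¹ *
              (w x i.castSucc i.succ (1 : F) * (w x i.castSucc i.succ 1)⁻¹) := by
            rw [t]; group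
          rw [e2, h.ww (cs_ne i), mul_inv_cancel, one_mul, mul_one]
        rw [e1, w, inv_inv]
        calc x i.succ i.castSucc a = 1 * x i.succ i.castSucc a * 1 := by group
          _ = (x i.castSucc i.succ a⁻¹ * x i.castSucc i.succ a⁻¹) * x i.succ i.castSucc a *
              (x i.castSucc i.succ a⁻¹ * x i.castSucc i.succ a⁻¹) := by rw [h.xx (cs_ne i)]
          _ = _ := by group
  Unorm := by
    intro i y hy u hu
    obtain ⟨a, rfl⟩ := (h.mem_X (cs_ne i)).1 hy
    have hle : (rd h).Ui i ≤ ((rd h).Ui i).comap (MulAut.conj (x i.castSucc i.succ a)).toMonoidHom := by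
      have hmem : ∀ (k l : Fin (m + 1)) (hkl : k < l) (_ : ¬ (k = i.castSucc ∧ l = i.succ)) (b : F),
          x k l b ∈ (rd h).Ui i := by
        intro k l hkl hne b
        have : (rd h).X ⟨(k, l), hkl.ne⟩ ≤ (rd h).Ui i := by
          refine le_iSup₂_of_le (⟨(k, l), hkl.ne⟩ : Root m) ⟨hkl, ?_⟩ le_rfl
          intro e
          have := congrArg Subtype.val e
          simp only [rd, Prod.mk.injEq] at this
          exact hne this
        exact this ((h.mem_X hkl.ne).2 ⟨b, rfl⟩)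
      refine iSup₂_le ?_
      rintro ⟨⟨k, l⟩, hkl⟩ ⟨hp, hne⟩ z hz
      obtain ⟨b, rfl⟩ := (h.mem_X hkl).1 hz
      have hp' : k < l := hp
      have hne' : ¬ (k = i.castSucc ∧ l = i.succ) := by
        rintro ⟨rfl, rfl⟩
        exact hne rfl
      change x i.castSucc i.succ a * x k l b * (x i.castSucc i.succ a)⁻¹ ∈ (rd h).Ui i
      by_cases hk : k = i.succ
      · subst hk
        have hil : i.castSucc < l := (Fin.castSucc_lt_succ).trans hp'
        rw [h.cl (cs_ne i) hkl hil.ne]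
        refine Subgroup.mul_mem _ (hmem _ _ hil ?_ _) (hmem _ _ hp' hne' _)
        rintro ⟨-, rfl⟩
        exact lt_irrefl _ hp'
      by_cases hl : l = i.castSucc
      · subst hl
        have hki : k < i.succ := hp'.trans (Fin.castSucc_lt_succ)
        rw [h.cr hkl (cs_ne i) hki.ne]
        refine Subgroup.mul_mem _ (hmem _ _ hp' hne' _) (hmem _ _ hki ?_ _)
        rintro ⟨rfl, -⟩
        exact lt_irrefl _ hp'
      rw [h.cc (cs_ne i) hkl (Ne.symm hk) (Ne.symm hl)]
      exact hmem _ _ hp' hne' _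
    exact hle hu
  notle := by
    intro r hr hle
    exact h.map_X_not_le hφ r hr (Subgroup.map_mono hle)

theorem gen_rd (hm : 2 ≤ m) (hgen : Subgroup.closure (gens x) = ⊤) :
    (rd h).B ⊔ Subgroup.closure (Set.range (rd h).n) = ⊤ := by
  have hι : 3 ≤ Fintype.card (Fin (m + 1)) := by rw [Fintype.card_fin]; omega
  set N := (rd h).B ⊔ Subgroup.closure (Set.range (rd h).n) with hN
  have hn : ∀ i : Fin m, w x i.castSucc i.succ 1 ∈ N := fun i =>
    (le_sup_right : _ ≤ N) (Subgroup.subset_closure ⟨i, rfl⟩)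
  have hw : ∀ d : ℕ, ∀ k l : Fin (m + 1), (l : ℕ) = k + d + 1 → w x k l 1 ∈ N := by
    intro d
    induction d with
    | zero =>
      intro k l hkl
      have hk : (k : ℕ) < m := by omega
      have := hn ⟨k, hk⟩
      have e1 : (⟨k, hk⟩ : Fin m).castSucc = k := Fin.ext rfl
      have e2 : (⟨k, hk⟩ : Fin m).succ = l := Fin.ext (by simp [hkl])
      rwa [e1, e2] at this
    | succ d ih =>
      intro k l hkl
      have hl : (l : ℕ) - 1 < m := by omega
      have h1 := ih k (⟨l - 1, hl⟩ : Fin m).castSucc (by simp; omega)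
      have h2 := hn ⟨l - 1, hl⟩
      have e2 : (⟨l - 1, hl⟩ : Fin m).succ = l := Fin.ext (by simp; omega)
      have hkne : k ≠ (⟨l - 1, hl⟩ : Fin m).castSucc := by
        intro e
        have := congrArg Fin.val e
        simp at this
        omega
      have hkl' : k ≠ l := by
        intro e
        rw [e] at hkl
        omega
      have h3 := h.w_perm_w hι (cs_ne ⟨l - 1, hl⟩) hkne 1
      rw [Equiv.swap_apply_left, e2, Equiv.swap_apply_of_ne_of_ne hkne hkl'] at h3
      rw [← h3]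
      rw [e2] at h2
      exact N.mul_mem (N.mul_mem h2 h1) (N.inv_mem h2)
  have hpos : ∀ k l : Fin (m + 1), k < l → ∀ a, x k l a ∈ N := by
    intro k l hkl a
    have h1 : (rd h).X ⟨(k, l), hkl.ne⟩ ≤ (rd h).U := le_iSup₂_of_le (⟨(k, l), hkl.ne⟩ : Root m) hkl le_rfl
    exact (le_sup_left : _ ≤ N) ((le_sup_left : (rd h).U ≤ (rd h).B) (h1 ((h.mem_X hkl.ne).2 ⟨a, rfl⟩)))
  rw [eq_top_iff, ← hgen, Subgroup.closure_le]
  rintro _ ⟨k, l, hkl, a, rfl⟩
  rcases lt_or_gt_of_ne hkl with h1 | h1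
  · exact hpos k l h1 a
  · have h2 := hw ((k : ℕ) - l - 1) l k (by have := Fin.lt_def.1 h1; omega)
    have h3 := h.w_perm hι h1.ne h1.ne a
    rw [Equiv.swap_apply_left, Equiv.swap_apply_right] at h3
    rw [← h3]
    exact N.mul_mem (N.mul_mem h2 (hpos l k h1 a)) (N.inv_mem h2)

/-! ### the unipotent group -/

omit h in
/-- the terms of the central series -/
def Wk (x : Fin (m + 1) → Fin (m + 1) → F → Γ) (k : ℕ) : Subgroup Γ :=
  Subgroup.closure {g | ∃ i j : Fin (m + 1), k ≤ i ∧ i < j ∧ ∃ a, g = x i j a}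

theorem U_le : (rd h).U ≤ Wk x 0 := by
  refine iSup₂_le ?_
  rintro ⟨⟨i, j⟩, hij⟩ hp y hy
  obtain ⟨a, rfl⟩ := (h.mem_X hij).1 hy
  exact Subgroup.subset_closure ⟨i, j, Nat.zero_le _, hp, a, rfl⟩

omit h in
theorem Wk_bot {k : ℕ} (hk : m ≤ k) : Wk x k = ⊥ := by
  rw [Wk, Subgroup.closure_eq_bot_iff]
  rintro _ ⟨i, j, hi, hij, a, rfl⟩
  have := Fin.lt_def.1 hij
  have := j.2
  omega

theorem Wk_dec {k : Fin (m + 1)} {g : Γ} (hg : g ∈ Wk x k) :
    ∃ r ∈ h.R k, ∃ u ∈ Wk x (k + 1), g = r * u := by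
  have hnorm : ∀ u ∈ Wk x (k + 1), ∀ r ∈ h.R k, u * r * u⁻¹ ∈ h.R k := by
    intro u hu
    have hcj : cj u (h.R k) = h.R k := by
      rw [Wk] at hu
      induction hu using Subgroup.closure_induction with
      | mem y hy =>
        obtain ⟨i, j, hi, hij, a, rfl⟩ := hy
        refine h.cj_x_R hij.ne ?_ a
        rintro rfl
        have := Fin.lt_def.1 hij
        omega
      | one => exact cj_one _
      | mul y z _ _ hy hz => rw [cj_mul, hz, hy]
      | inv y _ hy => rw [cj_eq_iff, inv_inv, hy]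
    intro r hr
    rw [← hcj]
    exact mem_cj hr
  have hS : ∀ g ∈ Wk x k, ∀ z, (∃ r ∈ h.R k, ∃ u ∈ Wk x (k + 1), z = r * u) →
      ∃ r ∈ h.R k, ∃ u ∈ Wk x (k + 1), g * z = r * u := by
    intro g hg
    have hgenr : ∀ y ∈ h.R k, ∀ z, (∃ r ∈ h.R k, ∃ u ∈ Wk x (k + 1), z = r * u) →
        ∃ r ∈ h.R k, ∃ u ∈ Wk x (k + 1), y * z = r * u := by
      rintro y hy _ ⟨r, hr, u, hu, rfl⟩
      exact ⟨y * r, Subgroup.mul_mem _ hy hr, u, hu, by group⟩
    have hgenu : ∀ y ∈ Wk x (k + 1), ∀ z, (∃ r ∈ h.R k, ∃ u ∈ Wk x (k + 1), z = r * u) →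
        ∃ r ∈ h.R k, ∃ u ∈ Wk x (k + 1), y * z = r * u := by
      rintro y hy _ ⟨r, hr, u, hu, rfl⟩
      exact ⟨y * r * y⁻¹, hnorm y hy r hr, y * u, Subgroup.mul_mem _ hy hu, by group⟩
    rw [Wk] at hg
    induction hg using Subgroup.closure_induction'' with
    | mem y hy =>
      obtain ⟨i, j, hi, hij, a, rfl⟩ := hy
      rcases Nat.eq_or_lt_of_le hi with h1 | h1
      · have : k = i := Fin.ext h1
        subst this
        exact hgenr _ (h.mem_R hij.ne a)
      · exact hgenu _ (Subgroup.subset_closure ⟨i, j, h1, hij, a, rfl⟩)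
    | inv_mem y hy =>
      obtain ⟨i, j, hi, hij, a, rfl⟩ := hy
      rcases Nat.eq_or_lt_of_le hi with h1 | h1
      · have : k = i := Fin.ext h1
        subst this
        exact hgenr _ (Subgroup.inv_mem _ (h.mem_R hij.ne a))
      · exact hgenu _ (Subgroup.inv_mem _ (Subgroup.subset_closure ⟨i, j, h1, hij, a, rfl⟩))
    | one => intro z hz; rwa [one_mul]
    | mul y z _ _ hy hz => intro z' hz'; rw [mul_assoc]; exact hy _ (hz _ hz')
  have := hS g hg 1 ⟨1, Subgroup.one_mem _, 1, Subgroup.one_mem _, by group⟩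
  rwa [mul_one] at this

/-- an element of `U` which is diagonal is trivial -/
theorem U_diag (hφ : ∀ i j (hij : i ≠ j) a, φ (x i j a) = SpecialLinearGroup.transvection hij a)
    {g : Γ} (hg : g ∈ (rd h).U) (hd : ∀ (y : Fin (m + 1) → F) k, y k = 0 → (φ g • y) k = 0) : g = 1 := by
  have hfix : ∀ k : Fin (m + 1), ∀ u ∈ Wk x (k + 1), ∀ y : Fin (m + 1) → F, (φ u • y) k = y k := by
    intro k u hu
    rw [Wk] at hu
    induction hu using Subgroup.closure_induction with
    | mem z hz =>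
      obtain ⟨i, j, hi, hij, a, rfl⟩ := hz
      intro y
      rw [phi_x hφ hij.ne, if_neg]
      rintro rfl
      omega
    | one => intro y; rw [map_one, one_smul]
    | mul a b _ _ ha hb => intro y; rw [map_mul, mul_smul, ha, hb]
    | inv a _ ha =>
      intro y
      have := ha (φ a⁻¹ • y)
      rw [map_inv, smul_inv_smul] at this
      rw [map_inv, this]
  have hstep : ∀ k : ℕ, k ≤ m → g ∈ Wk x k := by
    intro k
    induction k with
    | zero => intro _; exact h.U_le hg
    | succ k ih =>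
      intro hk
      have h1 := ih (by omega)
      obtain ⟨r, hr, u, hu, rfl⟩ := h.Wk_dec (k := ⟨k, by omega⟩) h1
      obtain ⟨c, rfl⟩ := h.exists_of_mem_R hr
      have h2 : h.D ⟨k, by omega⟩ c = h.D ⟨k, by omega⟩ 0 := by
        refine D_ext h fun j hj => ?_
        have h3 := hd ((φ u)⁻¹ • (Pi.single j (1 : F) : Fin (m + 1) → F)) ⟨k, by omega⟩
        have h4 := hfix ⟨k, by omega⟩ u hu ((φ u)⁻¹ • (Pi.single j (1 : F) : Fin (m + 1) → F))
        rw [smul_inv_smul, Pi.single_eq_of_ne hj] at h4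
        have h5 := h3 h4.symm
        rw [map_mul, mul_smul, smul_inv_smul, map_D h φ hφ, Pi.add_apply, Pi.single_eq_of_ne hj, zero_add,
          Pi.smul_apply, Pi.single_eq_same, smul_eq_mul, mul_one,
          Finset.sum_eq_single_of_mem j (Finset.mem_erase.2 ⟨Ne.symm hj, Finset.mem_univ _⟩), Pi.single_eq_same,
          mul_one] at h5
        · rw [h5]; rfl
        · intro b _ hb
          rw [Pi.single_eq_of_ne hb, mul_zero]
      rw [h2, h.D_zero, one_mul]
      exact hu
  have h6 := hstep m le_rfl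
  rw [Wk_bot le_rfl] at h6
  exact Subgroup.mem_bot.1 h6

/-- `K_2(F) = 0`, `Fin` version -/
theorem ker_eq_bot_fin [Finite F] (hm : 2 ≤ m) (hgen : Subgroup.closure (gens x) = ⊤)
    (hφ : ∀ i j (hij : i ≠ j) a, φ (x i j a) = SpecialLinearGroup.transvection hij a) : φ.ker = ⊥ := by
  have hι : 3 ≤ Fintype.card (Fin (m + 1)) := by rw [Fintype.card_fin]; omega
  have hA := h.axioms_rd hm hφ
  have h1 := hA.ker_le_B (h.gen_rd hm hgen) φ (h.map_X_not_le hφ)
  have hker := ker_le_center h hι hgen φ hφ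
  rw [eq_bot_iff]
  intro g hg
  obtain ⟨u, hu, t', ht, rfl⟩ := hA.mem_B_iff (h1 hg)
  have ht' : t' ∈ tor x := ht
  have hdiag : ∀ s ∈ tor x, ∀ (y : Fin (m + 1) → F) k, y k = 0 → (φ s • y) k = 0 := by
    intro s hs
    rw [tor] at hs
    have key : ∀ (y : Fin (m + 1) → F) k, (φ s • y) k = 0 ↔ y k = 0 := by
      induction hs using Subgroup.closure_induction with
      | mem z hz =>
        obtain ⟨i, j, hij, a, ha, rfl⟩ := hz
        intro y k
        rw [phi_t hφ hij ha]
        split_ifs with h1 h2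
        · subst h1
          simp [ha]
        · subst h2
          simp [ha]
        · rfl
      | one => intro y k; rw [map_one, one_smul]
      | mul a b _ _ ha hb => intro y k; rw [map_mul, mul_smul, ha, hb]
      | inv a _ ha =>
        intro y k
        have := ha (φ a⁻¹ • y) k
        rw [map_inv, smul_inv_smul] at this
        rw [map_inv, this]
    intro y k hk
    exact (key y k).2 hk
  have hu1 : u = 1 := by
    refine h.U_diag hφ hu ?_
    have e : φ u = φ t'⁻¹ := by
      rw [MonoidHom.mem_ker, map_mul] at hg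
      rw [map_inv]
      exact eq_inv_of_mul_eq_one_left hg
    rw [e]
    exact hdiag _ (Subgroup.inv_mem _ ht')
  subst hu1
  rw [one_mul] at hg ⊢
  rw [Subgroup.mem_bot]
  exact h.tor_inj hι hφ hker ht' hg

end SteinRel

section gen2

variable {ι : Type u} [Fintype ι] [DecidableEq ι]

/-- **`K_2(F) = 0` in type `A`**: a group generated by elements with the Steinberg relations over a finite field of
characteristic two which maps to `SL` is isomorphic to `SL`. -/
theorem SteinRel.ker_eq_bot [Finite F] {x : ι → ι → F → Γ} (h : SteinRel x) (hι : 3 ≤ Fintype.card ι)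
    (hgen : Subgroup.closure (gens x) = ⊤) {φ : Γ →* SpecialLinearGroup ι F}
    (hφ : ∀ i j (hij : i ≠ j) a, φ (x i j a) = SpecialLinearGroup.transvection hij a) : φ.ker = ⊥ := by
  obtain ⟨m, hm⟩ : ∃ m, Fintype.card ι = m + 1 := ⟨Fintype.card ι - 1, by omega⟩
  let e : Fin (m + 1) ≃ ι := (Fintype.equivFinOfCardEq hm).symm
  let x' : Fin (m + 1) → Fin (m + 1) → F → Γ := fun i j a => x (e i) (e j) a
  have hx' : SteinRel x' := by
    refine ⟨?_, ?_, ?_⟩
    · intro i j hij a b
      exact h.add _ _ (fun e' => hij (e.injective e')) a b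
    · intro i j k l hij hkl hjk hil a b
      exact h.comm _ _ _ _ (fun e' => hij (e.injective e')) (fun e' => hkl (e.injective e'))
        (fun e' => hjk (e.injective e')) (fun e' => hil (e.injective e')) a b
    · intro i j k hij hjk hik a b
      exact h.br _ _ _ (fun e' => hij (e.injective e')) (fun e' => hjk (e.injective e'))
        (fun e' => hik (e.injective e')) a b
  let ρ : SpecialLinearGroup ι F →* SpecialLinearGroup (Fin (m + 1)) F :=
    { toFun := fun s => ⟨(s : Matrix ι ι F).submatrix e e, by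
        rw [Matrix.det_submatrix_equiv_self]; exact s.2⟩
      map_one' := by
        apply Subtype.ext
        exact Matrix.submatrix_one_equiv e
      map_mul' := by
        intro s s'
        apply Subtype.ext
        exact (Matrix.submatrix_mul_equiv (s : Matrix ι ι F) (s' : Matrix ι ι F) e e e).symm }
  have hρ : ∀ s, (ρ s : Matrix (Fin (m + 1)) (Fin (m + 1)) F) = (s : Matrix ι ι F).submatrix e e := fun s => rfl
  have hρinj : Function.Injective ρ := by
    intro s s' hs
    apply Subtype.ext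
    have h1 := congrArg Subtype.val hs
    have h2 : (s : Matrix ι ι F).submatrix e e = (s' : Matrix ι ι F).submatrix e e := h1
    ext i j
    have := congrFun (congrFun h2 (e.symm i)) (e.symm j)
    simpa using this
  have hgen' : Subgroup.closure (gens x') = ⊤ := by
    rw [eq_top_iff, ← hgen, Subgroup.closure_le]
    rintro _ ⟨i, j, hij, a, rfl⟩
    refine Subgroup.subset_closure ⟨e.symm i, e.symm j, fun e' => hij (e.symm.injective e'), a, ?_⟩
    simp [x']
  have hφ' : ∀ i j (hij : i ≠ j) a, (ρ.comp φ) (x' i j a) = SpecialLinearGroup.transvection hij a := by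
    intro i j hij a
    rw [MonoidHom.comp_apply]
    change ρ (φ (x (e i) (e j) a)) = _
    rw [hφ _ _ (fun e' => hij (e.injective e'))]
    apply Subtype.ext
    rw [hρ]
    change (Matrix.transvection (e i) (e j) a).submatrix e e = Matrix.transvection i j a
    ext k l
    simp [Matrix.transvection, Matrix.one_apply, Matrix.single_apply]
  have h3 := hx'.ker_eq_bot_fin (by omega) hgen' hφ'
  rw [eq_bot_iff]
  intro g hg
  rw [← h3]
  rw [MonoidHom.mem_ker] at hg ⊢
  rw [MonoidHom.comp_apply, hg, map_one]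

end gen2

end Cfsg.Agent.AGraded
end

-- part: AGraded/HomFinite
section
/-!
# A homomorphism `SL ι F → G` from the Steinberg relations, `F` finite of characteristic two

No hypothesis on the centre is needed (`K_2(F) = 0`).
-/

set_option autoImplicit false

namespace Cfsg.Agent.AGraded

open Matrix

universe u v w

variable {ι : Type u} [Fintype ι] [DecidableEq ι] {F : Type v} [Field F]

theorem exists_hom_finite [Finite F] [CharP F 2] {G : Type w} [Group G] {x : ι → ι → F → G} (h : SteinRel x)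
    (hι : 3 ≤ Fintype.card ι) :
    ∃ π : SpecialLinearGroup ι F →* G,
      (∀ i j (hij : i ≠ j) a, π (SpecialLinearGroup.transvection hij a) = x i j a) ∧
      π.range = Subgroup.closure (gens x) ∧
      ((∃ i j, i ≠ j ∧ ∃ a, x i j a ≠ 1) → π.ker ≤ Subgroup.center (SpecialLinearGroup ι F)) :=
  exists_hom_core h hι fun Γ _ hy hygen _ _ hφ _ _ => SteinRel.ker_eq_bot (Γ := Γ) hy hι hygen hφ

end Cfsg.Agent.AGraded
end
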